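import Groth.Agent.CAlg48.InverseFunction
import Groth.Agent.QuadMorse.Normal
import Mathlib.RingTheory.MvPowerSeries.Equiv
import Mathlib.RingTheory.MvPowerSeries.Inverse
import Mathlib.RingTheory.Filtration
import Mathlib.RingTheory.MvPowerSeries.NoZeroDivisors

/-!
# Automorphisms of `k[[x, y]]` and isomorphisms between its quotients
-/

set_option autoImplicit false
set_option linter.style.haveILetI false

universe u

noncomputable section

namespace Groth.Agent.PlaneCurve70

open MvPowerSeries Groth.Agent.QuadMorse Groth.Agent.CAlg48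

variable {k : Type u} [Field k] {n : ℕ}

local notation "P" => MvPowerSeries (Fin n) k

theorem isDomain : IsDomain P := NoZeroDivisors.to_isDomain _

theorem C_eq (c : k) : (algebraMap k P) c = C c := rfl

theorem mem_one_iff {f : P} : f ∈ (ordFilt k n).I 1 ↔ constantCoeff f = 0 := by
  refine ⟨fun h => OrdGE.constantCoeff (k := 0) h, fun h e he => ?_⟩
  rw [show e = 0 from (Finsupp.degree_eq_zero_iff e).1 (by omega), coeff_zero_eq_constantCoeff_apply, h]

theorem mem_two_iff {f : P} :
    f ∈ (ordFilt k n).I 2 ↔ constantCoeff f = 0 ∧ ∀ i, coeff (Finsupp.single i 1) f = 0 := by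
  classical
  refine ⟨fun h => ⟨OrdGE.constantCoeff (k := 1) h, fun i => h _ (by simp)⟩, fun h e he => ?_⟩
  rcases Nat.lt_or_ge e.degree 1 with h0 | h1
  · rw [show e = 0 from (Finsupp.degree_eq_zero_iff e).1 (by omega), coeff_zero_eq_constantCoeff_apply, h.1]
  · obtain ⟨l, rfl⟩ : ∃ l, e = Finsupp.single l 1 := by
      obtain ⟨l, hl⟩ := (Finsupp.sum_eq_one_iff e).1 (show e.degree = 1 by omega)
      exact ⟨l, hl⟩
    exact h.2 l

theorem coeff_single_mul (a b : P) (l : Fin n) :
    coeff (Finsupp.single l 1) (a * b) =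
      coeff (Finsupp.single l 1) a * constantCoeff b + constantCoeff a * coeff (Finsupp.single l 1) b := by
  classical
  rw [coeff_mul, Finsupp.antidiagonal_single,
    show Finset.HasAntidiagonal.antidiagonal 1 = ({(0, 1), (1, 0)} : Finset (ℕ × ℕ)) from rfl]
  simp [add_comm]

theorem algHom_constantCoeff (φ : P →ₐ[k] P) (hφ : ∀ i, constantCoeff (φ (X i)) = 0) (f : P) :
    constantCoeff (φ f) = constantCoeff f := by
  conv_lhs => rw [decomp f]
  simp [map_sum, hφ, QuadMorse.map_C, C_eq]

theorem algHom_coeff_single (φ : P →ₐ[k] P) (hφ : ∀ i, constantCoeff (φ (X i)) = 0) (f : P) (l : Fin n) :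
    coeff (Finsupp.single l 1) (φ f) =
      ∑ j, coeff (Finsupp.single j 1) f * coeff (Finsupp.single l 1) (φ (X j)) := by
  classical
  conv_lhs => rw [decomp f]
  rw [map_add, map_add, map_sum, map_sum, QuadMorse.map_C, ← QuadMorse.map_C (AlgHom.id k P)]
  simp only [AlgHom.id_apply, coeff_C, Finsupp.single_eq_zero, one_ne_zero, if_false, zero_add]
  refine Finset.sum_congr rfl fun j _ => ?_
  rw [map_mul, coeff_single_mul, hφ, zero_mul, add_zero, mul_comm, algHom_constantCoeff φ hφ,
    ← coeff_zero_eq_constantCoeff_apply, coeff_div, if_pos (by simp), zero_add]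

/-- The automorphism sending the variables to `y`. -/
def autoOf (y : Fin n → P) (h0 : ∀ i, constantCoeff (y i) = 0)
    (hdet : (InverseFunction.jacobian y).det ≠ 0) : P ≃ₐ[k] P :=
  AlgEquiv.ofBijective (substAlgHom (hasSubst_of_constantCoeff_zero h0)) (by
    rw [show ⇑(substAlgHom (hasSubst_of_constantCoeff_zero h0) : P →ₐ[k] P) = subst y from
      funext fun f => substAlgHom_apply _ f]
    exact InverseFunction.bijective_subst h0 (isUnit_iff_ne_zero.2 hdet))

@[simp]
theorem autoOf_X (y : Fin n → P) (h0 : ∀ i, constantCoeff (y i) = 0)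
    (hdet : (InverseFunction.jacobian y).det ≠ 0) (i : Fin n) : autoOf y h0 hdet (X i) = y i := by
  exact (substAlgHom_X (hasSubst_of_constantCoeff_zero h0) i)

theorem equiv_constantCoeff (ψ : P ≃ₐ[k] P) (i : Fin n) : constantCoeff (ψ (X i)) = 0 := by
  by_contra h
  have h1 : IsUnit (ψ (X i)) := isUnit_iff_constantCoeff.mpr (isUnit_iff_ne_zero.2 h)
  have h2 := isUnit_iff_constantCoeff.mp ((isUnit_map_iff ψ (X i)).mp h1)
  rw [constantCoeff_X] at h2
  exact not_isUnit_zero h2

theorem equiv_mem (ψ : P ≃ₐ[k] P) {m : ℕ} {f : P} (hf : f ∈ (ordFilt k n).I m) : ψ f ∈ (ordFilt k n).I m :=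
  map_mem (ordFilt k n) ψ.toAlgHom (fun j => mem_one_iff.2 (equiv_constantCoeff ψ j)) m f hf

/-- An automorphism identifies the quotients by associated elements. -/
theorem nonempty_equiv (ψ : P ≃ₐ[k] P) {F G : P} (h : Associated (ψ F) G) :
    Nonempty ((P ⧸ Ideal.span {F}) ≃ₐ[k] (P ⧸ Ideal.span {G})) :=
  ⟨Ideal.quotientEquivAlg _ _ ψ (by
    haveI := isDomain (k := k) (n := n)
    rw [Ideal.map_span, Set.image_singleton]
    exact (Ideal.span_singleton_eq_span_singleton.2 h).symm)⟩

theorem hom_ext_quotient {G : P} [Nontrivial (P ⧸ Ideal.span {G})] (α β : P →ₐ[k] P ⧸ Ideal.span {G})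
    (hnu : ∀ i, ¬ IsUnit (α (X i))) (h : ∀ i, α (X i) = β (X i)) (f : P) : α f = β f := by
  haveI : IsLocalRing (P ⧸ Ideal.span {G}) :=
    IsLocalRing.of_surjective' (Ideal.Quotient.mk _) Ideal.Quotient.mk_surjective
  have hα : ∀ i, α (X i) ∈ IsLocalRing.maximalIdeal _ := fun i => hnu i
  have key : ∀ (N : ℕ) (f : P), α f - β f ∈ IsLocalRing.maximalIdeal (P ⧸ Ideal.span {G}) ^ N := by
    intro N
    induction N with
    | zero => intro f; simp
    | succ N ih =>
      intro f
      conv => congr; · skip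
              rw [decomp f]
      simp only [map_add, map_sum, map_mul, QuadMorse.map_C, add_sub_add_left_eq_sub, ← Finset.sum_sub_distrib,
        ← h, ← mul_sub, pow_succ']
      exact Submodule.sum_mem _ fun j _ => Submodule.mul_mem_mul (hα j) (ih _)
  rw [← sub_eq_zero]
  have := Ideal.iInf_pow_eq_bot_of_isLocalRing (IsLocalRing.maximalIdeal (P ⧸ Ideal.span {G}))
    (IsLocalRing.maximalIdeal.isMaximal _).ne_top
  exact (Submodule.mem_bot (P ⧸ Ideal.span {G})).1 (this ▸ Submodule.mem_iInf _ |>.2 fun N => key N f)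

theorem exists_lift {F G : P} (hF : F ∈ (ordFilt k n).I 1)
    (φ : (P ⧸ Ideal.span {F}) ≃ₐ[k] (P ⧸ Ideal.span {G})) :
    ∃ ψ : P →ₐ[k] P, (∀ i, constantCoeff (ψ (X i)) = 0) ∧
      (∀ f, φ (Ideal.Quotient.mk _ f) = Ideal.Quotient.mk _ (ψ f)) := by
  have hntF : Ideal.span {F} ≠ ⊤ := by
    rw [Ne, Ideal.span_singleton_eq_top, isUnit_iff_constantCoeff, mem_one_iff.1 hF]
    exact not_isUnit_zero
  haveI := Ideal.Quotient.nontrivial_iff.2 hntF
  haveI : Nontrivial (P ⧸ Ideal.span {G}) := φ.toEquiv.symm.nontrivial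
  have hnu : ∀ i, ¬ IsUnit (φ (Ideal.Quotient.mk _ (X i))) := fun i h => by
    rw [isUnit_map_iff] at h
    obtain ⟨b, hb⟩ := h.exists_right_inv
    obtain ⟨b, rfl⟩ := Ideal.Quotient.mk_surjective b
    rw [← map_mul, ← map_one (Ideal.Quotient.mk (Ideal.span {F})), Ideal.Quotient.eq,
      Ideal.mem_span_singleton] at hb
    obtain ⟨c, hc⟩ := hb
    have := congrArg constantCoeff hc
    simp [mem_one_iff.1 hF] at this
  choose y hy using fun i => Ideal.Quotient.mk_surjective (φ (Ideal.Quotient.mk _ (X i)))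
  have hy0 : ∀ i, constantCoeff (y i) = 0 := fun i => by
    by_contra h
    exact hnu i (hy i ▸ (isUnit_iff_constantCoeff.2 (isUnit_iff_ne_zero.2 h)).map _)
  refine ⟨substAlgHom (hasSubst_of_constantCoeff_zero hy0), fun i => by rw [substAlgHom_X]; exact hy0 i, ?_⟩
  refine hom_ext_quotient (φ.toAlgHom.comp (Ideal.Quotient.mkₐ k _))
    ((Ideal.Quotient.mkₐ k _).comp (substAlgHom (hasSubst_of_constantCoeff_zero hy0))) hnu fun i => ?_
  show φ _ = Ideal.Quotient.mk _ (substAlgHom (hasSubst_of_constantCoeff_zero hy0) (X i))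
  rw [substAlgHom_X, hy]
  rfl

/-- An isomorphism of quotients by elements of order `≥ 2` lifts. -/
theorem exists_auto {F G : P} (hF : F ∈ (ordFilt k n).I 2)
    (φ : (P ⧸ Ideal.span {F}) ≃ₐ[k] (P ⧸ Ideal.span {G})) :
    ∃ ψ : P ≃ₐ[k] P, Associated (ψ F) G := by
  classical
  have hF1 := (ordFilt k n).anti (show 1 ≤ 2 by omega) hF
  obtain ⟨ψ, hψ0, hψ⟩ := exists_lift hF1 φ
  have hG1 : G ∈ (ordFilt k n).I 1 := by
    rw [mem_one_iff]
    by_contra h
    have htop : Ideal.span {G} = ⊤ :=
      Ideal.span_singleton_eq_top.2 (isUnit_iff_constantCoeff.2 (isUnit_iff_ne_zero.2 h))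
    haveI : Nontrivial (P ⧸ Ideal.span {F}) := Ideal.Quotient.nontrivial_iff.2 (by
      rw [Ne, Ideal.span_singleton_eq_top, isUnit_iff_constantCoeff, mem_one_iff.1 hF1]
      exact not_isUnit_zero)
    exact Ideal.Quotient.nontrivial_iff.1 φ.symm.toEquiv.nontrivial htop
  haveI hntG : Nontrivial (P ⧸ Ideal.span {G}) := Ideal.Quotient.nontrivial_iff.2 (by
    rw [Ne, Ideal.span_singleton_eq_top, isUnit_iff_constantCoeff, mem_one_iff.1 hG1]
    exact not_isUnit_zero)
  obtain ⟨χ, hχ0, hχ⟩ := exists_lift hG1 φ.symm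
  let y : Fin n → P := fun i => ψ (X i)
  have hJ : InverseFunction.jacobian y * InverseFunction.jacobian (fun i => χ (X i)) = 1 := by
    ext i l
    have h1 : Ideal.Quotient.mk (Ideal.span {F}) (χ (y i)) = Ideal.Quotient.mk _ (X i) := by
      rw [← hχ, ← hψ, AlgEquiv.symm_apply_apply]
    rw [Ideal.Quotient.eq, Ideal.mem_span_singleton] at h1
    obtain ⟨c, hc⟩ := h1
    have h2 : χ (y i) - X i ∈ (ordFilt k n).I 2 := hc ▸ Ideal.mul_mem_right _ _ hF
    have h3 := (mem_two_iff.1 h2).2 l
    rw [map_sub, sub_eq_zero, algHom_coeff_single χ hχ0, coeff_X] at h3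
    rw [Matrix.mul_apply]
    refine h3.trans ?_
    simp [Matrix.one_apply, Finsupp.single_left_inj, eq_comm]
  have hdet : (InverseFunction.jacobian y).det ≠ 0 := fun h => by
    have := congrArg Matrix.det hJ
    rw [Matrix.det_mul, h, zero_mul, Matrix.det_one] at this
    exact zero_ne_one this
  let e := autoOf y hψ0 hdet
  have he : ∀ f, φ (Ideal.Quotient.mk _ f) = Ideal.Quotient.mk _ (e f) := fun f => by
    rw [hψ]
    haveI : Nontrivial (P ⧸ Ideal.span {G}) := Ideal.Quotient.nontrivial_iff.2 (by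
      rw [Ne, Ideal.span_singleton_eq_top, isUnit_iff_constantCoeff, mem_one_iff.1 hG1]
      exact not_isUnit_zero)
    refine hom_ext_quotient ((Ideal.Quotient.mkₐ k _).comp ψ) ((Ideal.Quotient.mkₐ k _).comp e.toAlgHom)
      (fun i h => ?_) (fun i => by simp [e, y]) f
    obtain ⟨b, hb⟩ := h.exists_right_inv
    obtain ⟨b, rfl⟩ := Ideal.Quotient.mk_surjective b
    rw [AlgHom.comp_apply, Ideal.Quotient.mkₐ_eq_mk, ← map_mul, ← map_one (Ideal.Quotient.mk (Ideal.span {G})),
      Ideal.Quotient.eq, Ideal.mem_span_singleton] at hb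
    obtain ⟨c, hc⟩ := hb
    have := congrArg constantCoeff hc
    simp [mem_one_iff.1 hG1, hψ0] at this
  haveI := isDomain (k := k) (n := n)
  refine ⟨e, Ideal.span_singleton_eq_span_singleton.1 (le_antisymm ?_ ?_)⟩
  · rw [Ideal.span_singleton_le_iff_mem, ← Ideal.Quotient.eq_zero_iff_mem, ← he,
      Ideal.Quotient.eq_zero_iff_mem.2 (Ideal.mem_span_singleton_self F), map_zero]
  · obtain ⟨f, rfl⟩ := e.surjective G
    rw [Ideal.span_singleton_le_iff_mem, Ideal.mem_span_singleton]
    have : φ (Ideal.Quotient.mk _ f) = 0 := by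
      rw [he, Ideal.Quotient.eq_zero_iff_mem]
      exact Ideal.mem_span_singleton_self _
    rw [EmbeddingLike.map_eq_zero_iff, Ideal.Quotient.eq_zero_iff_mem, Ideal.mem_span_singleton] at this
    exact map_dvd e this

theorem prime_of_not_mem_two {m : ℕ} {G : MvPowerSeries (Fin (m + 1)) k} (h1 : constantCoeff G = 0) {i : Fin (m + 1)}
    (h2 : coeff (Finsupp.single i 1) G ≠ 0) : Prime G := by
  classical
  let y : Fin (m + 1) → MvPowerSeries (Fin (m + 1)) k := fun j => if j = i then G else X j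
  have hy0 : ∀ j, constantCoeff (y j) = 0 := fun j => by
    by_cases h : j = i <;> simp [y, h, h1]
  have hdet : (InverseFunction.jacobian y).det ≠ 0 := by
    have : InverseFunction.jacobian y =
        (1 : Matrix (Fin (m + 1)) (Fin (m + 1)) k).updateRow i fun l => coeff (Finsupp.single l 1) G := by
      ext a b
      rw [Matrix.updateRow_apply]
      by_cases h : a = i
      · simp [InverseFunction.jacobian, y, h]
      · simp [InverseFunction.jacobian, y, h, Ne.symm h, coeff_X, Matrix.one_apply, Finsupp.single_left_inj, eq_comm]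
    rw [this, ← Matrix.det_transpose, ← Matrix.updateCol_transpose, Matrix.transpose_one,
      ← Matrix.cramer_apply, Matrix.cramer_one]
    exact h2
  have hX0 : Prime (X (0 : Fin (m + 1)) : MvPowerSeries (Fin (m + 1)) k) := by
    rw [← MulEquiv.prime_iff (MvPowerSeries.finSuccEquiv k m).toMulEquiv]
    show Prime (MvPowerSeries.finSuccEquiv k m (X 0))
    rw [finSuccEquiv_X_zero]
    haveI := isDomain (k := k) (n := m)
    exact PowerSeries.X_prime
  let z : Fin (m + 1) → MvPowerSeries (Fin (m + 1)) k := fun j => X (Equiv.swap 0 i j)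
  have hz : (InverseFunction.jacobian z).det ≠ 0 := fun h => by
    have hM : InverseFunction.jacobian z * InverseFunction.jacobian z = 1 := by
      ext a b
      rw [Matrix.mul_apply, Finset.sum_eq_single (Equiv.swap 0 i a) (fun x _ hx => by
        simp [InverseFunction.jacobian, z, coeff_X, Finsupp.single_left_inj, hx]) (by simp)]
      simp [InverseFunction.jacobian, z, coeff_X, Finsupp.single_left_inj, Matrix.one_apply, eq_comm]
    have := congrArg Matrix.det hM
    rw [Matrix.det_mul, h, zero_mul, Matrix.det_one] at this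
    exact zero_ne_one this
  have hXi : Prime (X i : MvPowerSeries (Fin (m + 1)) k) := by
    have := (MulEquiv.prime_iff (autoOf z (fun j => constantCoeff_X _) hz).toMulEquiv).2 hX0
    simpa [z] using this
  have := (MulEquiv.prime_iff (autoOf y hy0 hdet).toMulEquiv).2 hXi
  simpa [y] using this

end Groth.Agent.PlaneCurve70
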