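import Groth.Agent.PlaneCurve70.Auto
import Mathlib.RingTheory.KrullDimension.Polynomial
import Mathlib.RingTheory.Jacobson.Artinian
import Mathlib.RingTheory.MvPowerSeries.Derivative
import Mathlib.RingTheory.Polynomial.UniqueFactorization
import Mathlib.FieldTheory.Perfect
import Mathlib.RingTheory.KrullDimension.Field
import Mathlib.Algebra.MvPolynomial.NoZeroDivisors
import Mathlib.FieldTheory.IsAlgClosed.Basic

/-!
# Plane curves: elimination and square factors
-/

set_option autoImplicit false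
set_option linter.style.haveILetI false

universe u

noncomputable section

namespace Groth.Agent.PlaneCurve70

variable {k : Type u} [Field k]

local notation "R₂" => MvPolynomial (Fin 2) k
local notation "P₂" => MvPowerSeries (Fin 2) k

theorem exists_elim {p q : R₂} (hp : Irreducible p) (hq : ¬ p ∣ q) (i : Fin 2) :
    ∃ c : Polynomial k, c ≠ 0 ∧ Polynomial.aeval (MvPolynomial.X i : R₂) c ∈ Ideal.span {p, q} := by
  classical
  have hdim : ringKrullDim R₂ = 2 := by
    rw [MvPolynomial.ringKrullDim_of_isNoetherianRing, ringKrullDim_eq_zero_of_field]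
    simp
  haveI hK : Ring.KrullDimLE 0 (R₂ ⧸ Ideal.span {p, q}) := by
    rw [Ring.krullDimLE_zero_iff]
    intro J hJ
    haveI := hJ
    haveI hQp : (J.comap (Ideal.Quotient.mk (Ideal.span {p, q}))).IsPrime := inferInstance
    set Q := J.comap (Ideal.Quotient.mk (Ideal.span {p, q})) with hQ
    have hpq : Ideal.span {p, q} ≤ Q := fun x hx => by
      rw [hQ, Ideal.mem_comap, Ideal.Quotient.eq_zero_iff_mem.2 hx]; exact zero_mem _
    suffices Q.IsMaximal by
      have h := Ideal.map_comap_of_surjective (Ideal.Quotient.mk (Ideal.span {p, q})) Ideal.Quotient.mk_surjective J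
      exact h ▸ (Ideal.map_eq_top_or_isMaximal_of_surjective _ Ideal.Quotient.mk_surjective this).resolve_left
        (h.symm ▸ hJ.ne_top)
    obtain ⟨M, hM, hQM⟩ := Ideal.exists_le_maximal Q hQp.ne_top
    rcases eq_or_lt_of_le hQM with h | h
    · exact h ▸ hM
    exfalso
    haveI hPp : (Ideal.span {p}).IsPrime := (Ideal.span_singleton_prime hp.ne_zero).2 hp.prime
    have h1 : (⊥ : Ideal R₂) < Ideal.span {p} := bot_lt_iff_ne_bot.2 (by simpa using hp.ne_zero)
    have h2 : Ideal.span {p} < Q := by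
      refine lt_of_le_of_ne ((Ideal.span_mono (by simp)).trans hpq) fun he => hq ?_
      rw [← Ideal.mem_span_singleton, he]
      exact hpq (Ideal.subset_span (by simp))
    let s : LTSeries (PrimeSpectrum R₂) := LTSeries.mk 3
      ![⟨⊥, Ideal.isPrime_bot⟩, ⟨_, hPp⟩, ⟨Q, hQp⟩, ⟨M, hM.isPrime⟩] (Fin.strictMono_iff_lt_succ.2 fun j => by
        fin_cases j
        · exact h1
        · exact h2
        · exact h)
    have := Order.LTSeries.length_le_krullDim s
    rw [← ringKrullDim, hdim] at this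
    have h3 : (3 : ℕ∞) ≤ 2 := WithBot.coe_le_coe.1 this
    norm_num at h3
  haveI : IsArtinianRing (R₂ ⧸ Ideal.span {p, q}) := isArtinianRing_iff_krullDimLE_zero.2 hK
  haveI : Module.Finite k (R₂ ⧸ Ideal.span {p, q}) := (Module.finite_iff_isArtinianRing k _).2 inferInstance
  let x : R₂ ⧸ Ideal.span {p, q} := Ideal.Quotient.mk _ (MvPolynomial.X i)
  refine ⟨minpoly k x, minpoly.ne_zero (Algebra.IsIntegral.isIntegral x), ?_⟩
  rw [← Ideal.Quotient.eq_zero_iff_mem, ← Ideal.Quotient.mkₐ_eq_mk k, ← Polynomial.aeval_algHom_apply]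
  exact minpoly.aeval k x

theorem constantCoeff_aeval_X (i : Fin 2) (c : Polynomial k) :
    MvPolynomial.constantCoeff (Polynomial.aeval (MvPolynomial.X i : R₂) c) = c.coeff 0 := by
  induction c using Polynomial.induction_on' with
  | add u v hu hv => simp [hu, hv]
  | monomial m a => cases m <;> simp [Polynomial.coeff_monomial]

theorem not_prime_dvd_both {G : P₂} (hG : Prime G) {p q : R₂} (hp : Irreducible p) (hq : ¬ p ∣ q)
    (hGp : G ∣ (p : P₂)) (hGq : G ∣ (q : P₂)) : False := by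
  classical
  have hX : ∀ i : Fin 2, G ∣ (MvPowerSeries.X i : P₂) := fun i => by
    obtain ⟨c, hc, hmem⟩ := exists_elim hp hq i
    obtain ⟨a, b, hab⟩ := Ideal.mem_span_pair.1 hmem
    obtain ⟨c', hc', hnd⟩ := Polynomial.exists_eq_pow_rootMultiplicity_mul_and_not_dvd c hc 0
    rw [Polynomial.C_0, sub_zero] at hc' hnd
    rw [Polynomial.X_dvd_iff] at hnd
    have hG' : G ∣ ((Polynomial.aeval (MvPolynomial.X i : R₂) c : R₂) : P₂) := by
      rw [← hab, MvPolynomial.coe_add, MvPolynomial.coe_mul, MvPolynomial.coe_mul]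
      exact dvd_add (hGp.mul_left _) (hGq.mul_left _)
    rw [hc', map_mul, map_pow, Polynomial.aeval_X, MvPolynomial.coe_mul, MvPolynomial.coe_pow,
      MvPolynomial.coe_X] at hG'
    have hu : IsUnit ((Polynomial.aeval (MvPolynomial.X i : R₂) c' : R₂) : P₂) := by
      rw [MvPowerSeries.isUnit_iff_constantCoeff, isUnit_iff_ne_zero]
      have : MvPowerSeries.constantCoeff ((Polynomial.aeval (MvPolynomial.X i : R₂) c' : R₂) : P₂) = c'.coeff 0 := by
        rw [← MvPowerSeries.coeff_zero_eq_constantCoeff_apply, MvPolynomial.coeff_coe,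
          ← MvPolynomial.constantCoeff_eq, constantCoeff_aeval_X]
      rw [this]; exact hnd
    exact hG.dvd_of_dvd_pow (hu.dvd_mul_right.1 hG')
  have hX0 : Prime (MvPowerSeries.X (0 : Fin 2) : P₂) :=
    prime_of_not_mem_two (i := 0) (MvPowerSeries.constantCoeff_X _) (by simp [MvPowerSeries.coeff_X])
  have h01 : (MvPowerSeries.X (0 : Fin 2) : P₂) ∣ MvPowerSeries.X 1 :=
    (hG.irreducible.associated_of_dvd hX0.irreducible (hX 0)).symm.dvd.trans (hX 1)
  obtain ⟨w, hw⟩ := h01
  have := congrArg (MvPowerSeries.coeff (Finsupp.single (1 : Fin 2) 1)) hw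
  rw [coeff_single_mul] at this
  simp [MvPowerSeries.coeff_X, Finsupp.single_left_inj] at this

theorem totalDegree_pderiv_lt {p : R₂} {i : Fin 2} (h : MvPolynomial.pderiv i p ≠ 0) :
    (MvPolynomial.pderiv i p).totalDegree < p.totalDegree := by
  classical
  obtain ⟨d, hd, hmax⟩ := Finset.exists_mem_eq_sup _ (MvPolynomial.support_nonempty.2 h)
    (fun s : Fin 2 →₀ ℕ => s.sum fun _ e => e)
  rw [MvPolynomial.totalDegree, hmax]
  have hd' : d + Finsupp.single i 1 ∈ p.support := by
    rw [MvPolynomial.mem_support_iff] at hd ⊢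
    rw [MvPolynomial.coeff_pderiv] at hd
    exact left_ne_zero_of_mul hd
  refine lt_of_lt_of_le ?_ (MvPolynomial.le_totalDegree hd')
  rw [Finsupp.sum_add_index' (fun _ => rfl) (fun _ _ _ => rfl), Finsupp.sum_single_index rfl]
  omega

variable [IsAlgClosed k]

theorem exists_pderiv_ne_zero {p : R₂} (hp : Irreducible p) : ∃ i, MvPolynomial.pderiv i p ≠ 0 := by
  classical
  by_contra! h
  obtain ⟨ℓ, hℓ⟩ := CharP.exists k
  have hdvd : ∀ d ∈ p.support, ∀ i, ℓ ∣ d i := by
    intro d hd i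
    by_contra hndvd
    have h0 : d i ≠ 0 := fun h0 => hndvd (h0 ▸ dvd_zero ℓ)
    have := congrArg (MvPolynomial.coeff (d - Finsupp.single i 1)) (h i)
    rw [MvPolynomial.coeff_pderiv, tsub_add_cancel_of_le (Finsupp.single_le_iff.2 (Nat.one_le_iff_ne_zero.2 h0)),
      MvPolynomial.coeff_zero] at this
    rcases mul_eq_zero.1 this with h1 | h1
    · exact MvPolynomial.mem_support_iff.1 hd h1
    · refine hndvd ((CharP.cast_eq_zero_iff k ℓ _).1 ?_)
      rw [show d i = (d - Finsupp.single i 1 : Fin 2 →₀ ℕ) i + 1 by simp; omega]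
      exact_mod_cast h1
  rcases CharP.char_is_prime_or_zero k ℓ with hℓp | rfl
  · haveI := Fact.mk hℓp
    haveI : PerfectRing k ℓ := PerfectField.toPerfectRing ℓ
    have hr : ∀ d ∈ p.support, ∃ c : k, c ^ ℓ = p.coeff d := fun d _ =>
      IsAlgClosed.exists_pow_nat_eq (p.coeff d) hℓp.pos
    choose c hc using hr
    let r : R₂ := ∑ d ∈ p.support.attach,
      MvPolynomial.monomial (d.1.mapRange (· / ℓ) (Nat.zero_div ℓ)) (c d.1 d.2)
    have : p = r ^ ℓ := by
      conv_lhs => rw [p.as_sum, ← Finset.sum_attach]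
      rw [sum_pow_char]
      refine Finset.sum_congr rfl fun d _ => ?_
      rw [MvPolynomial.monomial_pow, hc]
      rw [show ℓ • d.1.mapRange (· / ℓ) (Nat.zero_div ℓ) = d.1 from
        Finsupp.ext fun i => by simp [Nat.mul_div_cancel' (hdvd d.1 d.2 i)]]
    exact not_irreducible_pow hℓp.ne_one (this ▸ hp)
  · have : p = MvPolynomial.C (p.coeff 0) := by
      ext d
      rw [MvPolynomial.coeff_C]
      split_ifs with h0
      · rw [h0]
      · by_contra hne
        obtain ⟨i, hi⟩ : ∃ i, d i ≠ 0 := by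
          by_contra! hall
          exact h0 (Finsupp.ext fun i => (hall i).symm)
        exact hi (zero_dvd_iff.1 (hdvd d (MvPolynomial.mem_support_iff.2 hne) i))
    rw [this] at hp
    rcases eq_or_ne (p.coeff 0) 0 with h0 | h0
    · exact hp.ne_zero (by rw [h0, map_zero])
    · exact hp.not_isUnit ((isUnit_iff_ne_zero.2 h0).map _)

theorem not_sq_dvd {G : P₂} (hG : Prime G) {p : R₂} (hp : Irreducible p) :
    ¬ G ^ 2 ∣ (p : P₂) := by
  rintro ⟨w, hw⟩
  obtain ⟨i, hi⟩ := exists_pderiv_ne_zero hp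
  refine not_prime_dvd_both hG hp (q := MvPolynomial.pderiv i p) (fun hdvd => ?_) ⟨G * w, by rw [hw]; ring⟩ ?_
  · exact (Nat.not_le.2 (totalDegree_pderiv_lt hi)) (MvPolynomial.totalDegree_le_of_dvd_of_isDomain hdvd hi)
  · rw [← MvPowerSeries.pderiv_coe, hw, sq, Derivation.leibniz, Derivation.leibniz]
    simp only [smul_eq_mul]
    exact dvd_add ((dvd_mul_right G G).mul_right _) ((dvd_add (dvd_mul_right G _) (dvd_mul_right G _)).mul_left _)

/-- If a polynomial is a unit times the square of a smooth analytic branch, it is so algebraically. -/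
theorem exists_sq_mul {f : R₂} (hf0 : f ≠ 0) {G u : P₂} (hG : Prime G) (hu : IsUnit u)
    (hf : (f : P₂) = u * G ^ 2) :
    ∃ g h : R₂, f = g ^ 2 * h ∧ IsUnit (h : P₂) ∧ ∃ w : P₂, IsUnit w ∧ (g : P₂) = G * w := by
  classical
  have hsplit : ∀ f : R₂, f ≠ 0 → G ∣ (f : P₂) → ∃ p, Irreducible p ∧ p ∣ f ∧ G ∣ (p : P₂) := by
    intro f
    induction f using UniqueFactorizationMonoid.induction_on_prime with
    | h₁ => exact fun h => absurd rfl h
    | h₂ x hx =>
      intro _ hd
      exact absurd (isUnit_of_dvd_unit hd (hx.map (MvPolynomial.coeToMvPowerSeries.ringHom : R₂ →+* P₂))) hG.not_unit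
    | h₃ a p ha hp ih =>
      intro _ hd
      rw [MvPolynomial.coe_mul] at hd
      rcases hG.dvd_or_dvd hd with h | h
      · exact ⟨p, hp.irreducible, dvd_mul_right p a, h⟩
      · obtain ⟨q, h1, h2, h3⟩ := ih ha h
        exact ⟨q, h1, h2.mul_left p, h3⟩
  obtain ⟨p, hp, ⟨f₁, rfl⟩, hGp⟩ := hsplit f hf0 (hf ▸ (dvd_pow_self G two_ne_zero).mul_left u)
  obtain ⟨w, hw⟩ := hGp
  have hGw : ¬ G ∣ w := fun ⟨v, hv⟩ => not_sq_dvd hG hp ⟨v, by rw [hw, hv]; ring⟩
  rw [MvPolynomial.coe_mul, hw] at hf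
  have hf1 : w * (f₁ : P₂) = u * G := mul_left_cancel₀ hG.ne_zero (by rw [← mul_assoc, hf]; ring)
  have hGf1 : G ∣ (f₁ : P₂) := (hG.dvd_or_dvd ⟨u, by rw [hf1]; ring⟩).resolve_left hGw
  obtain ⟨p', hp', hdvd, hGp'⟩ := hsplit f₁ (right_ne_zero_of_mul hf0) hGf1
  have hpp' : p ∣ p' := by
    by_contra hn
    exact not_prime_dvd_both hG hp hn ⟨w, hw⟩ hGp'
  obtain ⟨h, rfl⟩ := hpp'.trans hdvd
  rw [MvPolynomial.coe_mul, hw] at hf1
  have hu' : w * w * (h : P₂) = u := mul_left_cancel₀ hG.ne_zero (by linear_combination hf1)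
  rw [← hu'] at hu
  exact ⟨p, h, by ring, isUnit_of_mul_isUnit_right hu, w, isUnit_of_mul_isUnit_left (isUnit_of_mul_isUnit_left hu), hw⟩

end Groth.Agent.PlaneCurve70
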