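import Groth.Agent.PlaneCurve70.Auto
import Mathlib.RingTheory.MvPowerSeries.Inverse
import Mathlib.FieldTheory.IsAlgClosed.Basic

/-!
# Normal forms of plane curve germs of multiplicity at most two
-/

set_option autoImplicit false
set_option linter.style.haveILetI false

universe u

noncomputable section

namespace Groth.Agent.PlaneCurve70

open MvPowerSeries Groth.Agent.QuadMorse Groth.Agent.CAlg48

variable {k : Type u} [Field k]

local notation "P₂" => MvPowerSeries (Fin 2) k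

theorem equivTransAssociated {ψ ψ' : P₂ ≃ₐ[k] P₂} {F G H : P₂} (h : Associated (ψ F) G) (h' : Associated (ψ' G) H) :
    Associated ((ψ.trans ψ') F) H :=
  (h.map ψ'.toRingEquiv.toRingHom.toMonoidHom).trans h'

theorem det_jacobian (y : Fin 2 → P₂) : (InverseFunction.jacobian y).det =
    coeff (Finsupp.single 0 1) (y 0) * coeff (Finsupp.single 1 1) (y 1) -
      coeff (Finsupp.single 1 1) (y 0) * coeff (Finsupp.single 0 1) (y 1) := by
  rw [Matrix.det_fin_two]; rfl

theorem coeff_single_X (i j : Fin 2) :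
    coeff (Finsupp.single i 1) (X j : P₂) = if i = j then 1 else 0 := by
  classical
  simp [coeff_X, Finsupp.single_left_inj]

theorem coeff_single_of_mem {f : P₂} (h : f ∈ (ordFilt k 2).I 2) (i : Fin 2) :
    coeff (Finsupp.single i 1) f = 0 := (mem_two_iff.1 h).2 i

/-- The quadratic part. -/
def quad (a b c : k) : P₂ := C a * X 0 ^ 2 + C b * (X 0 * X 1) + C c * X 1 ^ 2

theorem quad_decomp {F : P₂} (hF : F ∈ (ordFilt k 2).I 2) :
    F - quad (coeff (Finsupp.single 0 2) F) (coeff (Finsupp.single 0 1 + Finsupp.single 1 1) F)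
      (coeff (Finsupp.single 1 2) F) ∈ (ordFilt k 2).I 3 := by
  classical
  intro e he
  have hd : e 0 + e 1 < 3 := by simpa [Finsupp.degree_eq_sum] using he
  obtain ⟨p, q, rfl⟩ : ∃ p q, e = Finsupp.single 0 p + Finsupp.single 1 q :=
    ⟨e 0, e 1, by ext i; fin_cases i <;> simp⟩
  simp at hd
  rw [quad, X_pow_eq, X_pow_eq, show (X 0 * X 1 : P₂) = monomial (Finsupp.single 0 1 + Finsupp.single 1 1) 1 by
    rw [X_def, X_def, monomial_mul_monomial, one_mul]]
  simp only [map_sub, map_add, coeff_C_mul, coeff_monomial]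
  have hlow : p + q < 2 → coeff (Finsupp.single (0 : Fin 2) p + Finsupp.single 1 q) F = 0 := fun h =>
    hF _ (by simpa [Finsupp.degree_eq_sum] using h)
  have key : ∀ p' q', (Finsupp.single (0 : Fin 2) p + Finsupp.single 1 q = Finsupp.single 0 p' + Finsupp.single 1 q') ↔
      p = p' ∧ q = q' := fun p' q' => by
    refine ⟨fun h => ⟨by simpa using DFunLike.congr_fun h 0, by simpa using DFunLike.congr_fun h 1⟩, ?_⟩
    rintro ⟨rfl, rfl⟩; rfl
  have k0 := key 2 0
  have k1 := key 1 1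
  have k2 := key 0 2
  simp only [Finsupp.single_zero, add_zero, zero_add] at k0 k2
  simp only [k0, k1, k2]
  have hp : p < 3 := by omega
  have hq : q < 3 := by omega
  interval_cases p <;> interval_cases q <;> first | omega | simp_all

theorem algEquiv_C (ψ : P₂ ≃ₐ[k] P₂) (c : k) : ψ (C c) = C c := ψ.commutes c

theorem sub_quad_equiv {F : P₂} {a b c a' b' c' : k} (h : F - quad a b c ∈ (ordFilt k 2).I 3) (ψ : P₂ ≃ₐ[k] P₂)
    (hψ : ψ (quad a b c) = quad a' b' c') : ψ F - quad a' b' c' ∈ (ordFilt k 2).I 3 := by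
  rw [← hψ, ← map_sub]
  exact equiv_mem ψ h

theorem exists_square_coeff {F : P₂} {a b c : k} (h : F - quad a b c ∈ (ordFilt k 2).I 3)
    (hne : a ≠ 0 ∨ b ≠ 0 ∨ c ≠ 0) :
    ∃ (ψ : P₂ ≃ₐ[k] P₂) (a' b' c' : k), a' ≠ 0 ∧ ψ F - quad a' b' c' ∈ (ordFilt k 2).I 3 := by
  classical
  by_cases ha : a = 0
  swap
  · exact ⟨AlgEquiv.refl, a, b, c, ha, h⟩
  by_cases hc : c = 0
  swap
  · let ψ := autoOf (fun i : Fin 2 => (X (Equiv.swap 0 1 i) : P₂)) (fun i => constantCoeff_X _)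
      (by rw [det_jacobian]; simp [coeff_single_X])
    refine ⟨ψ, c, b, a, hc, sub_quad_equiv h ψ ?_⟩
    simp only [quad, map_add, map_mul, map_pow, algEquiv_C, ψ, autoOf_X, Equiv.swap_apply_left, Equiv.swap_apply_right]
    ring
  have hb : b ≠ 0 := by simpa [ha, hc] using hne
  let ψ := autoOf (fun i : Fin 2 => if i = 0 then (X 0 : P₂) else X 0 + X 1) (fun i => by split_ifs <;> simp)
      (by rw [det_jacobian]; simp [coeff_single_X])
  refine ⟨ψ, b, b, 0, hb, sub_quad_equiv h ψ ?_⟩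
  simp only [quad, map_add, map_mul, map_pow, algEquiv_C, ψ, autoOf_X, ha, hc, map_zero, if_true,
    one_ne_zero, if_false]
  ring

theorem exists_no_cross (h2 : (2 : k) ≠ 0) {F : P₂} {a b c : k} (h : F - quad a b c ∈ (ordFilt k 2).I 3)
    (ha : a ≠ 0) :
    ∃ (ψ : P₂ ≃ₐ[k] P₂) (c' : k), ψ F - quad a 0 c' ∈ (ordFilt k 2).I 3 := by
  let t := -b / (2 * a)
  let ψ := autoOf (fun i : Fin 2 => if i = 0 then (X 0 + C t * X 1 : P₂) else X 1) (fun i => by split_ifs <;> simp)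
      (by rw [det_jacobian]; simp [coeff_single_X])
  refine ⟨ψ, a * t ^ 2 + b * t + c, sub_quad_equiv h ψ ?_⟩
  have hb : (C b : P₂) = - (2 * C a * C t) := by
    rw [show (2 : P₂) = C 2 from (map_ofNat C 2).symm, ← map_mul, ← map_mul, ← map_neg]
    congr 1
    simp only [t]
    field_simp
  simp only [quad, map_add, map_mul, map_pow, algEquiv_C, ψ, autoOf_X, if_true, one_ne_zero, if_false, map_zero]
  rw [hb]
  ring

theorem exists_sqrt [IsAlgClosed k] (h2 : (2 : k) ≠ 0) {U : P₂} (hU : constantCoeff U ≠ 0) :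
    ∃ W : P₂, W ^ 2 = U ∧ constantCoeff W ≠ 0 := by
  obtain ⟨s, hs⟩ := IsAlgClosed.exists_pow_nat_eq (constantCoeff U) two_pos
  let V : P₂ := C (constantCoeff U)⁻¹ * U - 1
  have hV : V ∈ (ordFilt k 2).I 1 := mem_one_iff.2 (by simp [V, hU])
  obtain ⟨h, hh, hfix⟩ := exists_fixed (ordFilt k 2) (n := 1) (m := 1)
    (fun g _ => C (2 : k)⁻¹ * (V - g 0 * g 0))
    (fun g hg _ => Ideal.mul_mem_left _ _ (sub_mem hV ((ordFilt k 2).anti (by omega) ((ordFilt k 2).mul (hg 0) (hg 0)))))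
    (fun N g g' _ hg hg' hd _ => by
      rw [← mul_sub, show V - g 0 * g 0 - (V - g' 0 * g' 0) = -((g 0 - g' 0) * (g 0 + g' 0)) by ring]
      exact Ideal.mul_mem_left _ _ (neg_mem ((ordFilt k 2).mul (hd 0) (add_mem (hg 0) (hg' 0)))))
  have hf : C (2 : k)⁻¹ * (V - h 0 * h 0) = h 0 := congrFun hfix 0
  refine ⟨C s * (1 + h 0), ?_, ?_⟩
  · have : (C (2 : k) : P₂) * h 0 = V - h 0 * h 0 := by
      conv_lhs => rw [← hf, ← mul_assoc, ← map_mul, mul_inv_cancel₀ h2, map_one, one_mul]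
    rw [mul_pow, ← map_pow, hs, show (1 + h 0) ^ 2 = 1 + (C (2 : k) * h 0 + h 0 * h 0) by
      rw [map_ofNat]; ring, this, sub_add_cancel, show (1 : P₂) + V = C (constantCoeff U)⁻¹ * U by simp [V],
      ← mul_assoc, ← map_mul, mul_inv_cancel₀ hU, map_one, one_mul]
  · have hs0 : s ≠ 0 := fun h => hU (by rw [← hs, h]; simp)
    rw [map_mul, map_add, constantCoeff_one, constantCoeff_C, mem_one_iff.1 (hh 0)]
    simpa using hs0

theorem exists_split (h2 : (2 : k) ≠ 0) {G : P₂} (hG : G ∈ (ordFilt k 2).I 2)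
    (h11 : coeff (Finsupp.single 0 1 + Finsupp.single 1 1) G = 0) (h20 : coeff (Finsupp.single 0 2) G = 0) :
    ∃ h C₀ : P₂, h ∈ (ordFilt k 2).I 2 ∧ C₀ ∈ (ordFilt k 2).I 2 ∧ (∀ e, e 0 ≠ 0 → coeff e C₀ = 0) ∧
      X 0 ^ 2 + G = (X 0 + h) ^ 2 + C₀ := by
  classical
  have hG0 : QuadMorse.div 0 G ∈ (ordFilt k 2).I 2 := by
    intro e he
    rw [coeff_div, if_pos (fun i hi => absurd hi (by simp))]
    have hd : e 0 + e 1 < 2 := by simpa [Finsupp.degree_eq_sum] using he
    obtain ⟨p, q, rfl⟩ : ∃ p q, e = Finsupp.single 0 p + Finsupp.single 1 q :=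
      ⟨e 0, e 1, by ext i; fin_cases i <;> simp⟩
    simp at hd
    have hp : p < 2 := by omega
    have hq : q < 2 := by omega
    interval_cases p <;> interval_cases q <;> first | omega | skip
    · exact hG _ (by simp)
    · rw [Finsupp.single_zero, zero_add, add_comm]; exact h11
    · rw [Finsupp.single_zero, add_zero, ← Finsupp.single_add]; exact h20
  have hdiv : ∀ {m : ℕ} {f : P₂}, f ∈ (ordFilt k 2).I (m + 1) → QuadMorse.div 0 f ∈ (ordFilt k 2).I m :=
    fun hf => OrdGE.div hf 0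
  have hsub : ∀ f g : P₂, QuadMorse.div 0 f - QuadMorse.div 0 g = QuadMorse.div 0 (f - g) := fun f g => by
    ext e; simp only [map_sub, coeff_div]; split_ifs <;> simp
  obtain ⟨h, hh, hfix⟩ := exists_fixed (ordFilt k 2) (n := 1) (m := 2)
    (fun g _ => C (2 : k)⁻¹ * QuadMorse.div 0 (G - g 0 * g 0))
    (fun g hg _ => Ideal.mul_mem_left _ _ (by
      rw [← hsub]
      exact sub_mem hG0 ((ordFilt k 2).anti (by omega) (hdiv (m := 3) ((ordFilt k 2).mul (i := 2) (j := 2) (hg 0) (hg 0))))))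
    (fun N g g' _ hg hg' hd _ => by
      rw [← mul_sub, hsub, show G - g 0 * g 0 - (G - g' 0 * g' 0) = -((g 0 - g' 0) * (g 0 + g' 0)) by ring]
      exact Ideal.mul_mem_left _ _ (hdiv (m := N + 1) (neg_mem ((ordFilt k 2).mul (i := N) (j := 2) (hd 0) (add_mem (hg 0) (hg' 0))))))
  have hf : C (2 : k)⁻¹ * QuadMorse.div 0 (G - h 0 * h 0) = h 0 := congrFun hfix 0
  refine ⟨h 0, G - h 0 * h 0 - C 2 * X 0 * h 0, hh 0, ?_, fun e he => ?_, ?_⟩
  · refine sub_mem (sub_mem hG ((ordFilt k 2).anti (by omega) ((ordFilt k 2).mul (hh 0) (hh 0)))) ?_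
    exact Ideal.mul_mem_left _ _ (hh 0)
  · have : C (2 : k) * h 0 = QuadMorse.div 0 (G - h 0 * h 0) := by
      conv_lhs => rw [← hf, ← mul_assoc, ← map_mul, mul_inv_cancel₀ h2, map_one, one_mul]
    rw [mul_comm (C (2 : k)) (X 0), mul_assoc, this, map_sub, coeff_X_mul', if_pos (by omega), coeff_div,
      if_pos (fun i hi => absurd hi (by simp)), tsub_add_cancel_of_le (by rw [Finsupp.single_le_iff]; omega), sub_self]
  · rw [map_ofNat]; ring

theorem nonempty_of_square_coeff [IsAlgClosed k] (h2 : (2 : k) ≠ 0) {F : P₂} (hF : F ∈ (ordFilt k 2).I 2)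
    (hne : ¬ F ∈ (ordFilt k 2).I 3) :
    (∃ (n : ℕ) (ψ : P₂ ≃ₐ[k] P₂), Associated (ψ (X 1 ^ 2 - X 0 ^ (n + 1))) F) ∨
      ∃ ψ : P₂ ≃ₐ[k] P₂, Associated (ψ (X 1 ^ 2)) F := by
  classical
  have hd := quad_decomp hF
  have hne' : coeff (Finsupp.single (0 : Fin 2) 2) F ≠ 0 ∨
      coeff (Finsupp.single (0 : Fin 2) 1 + Finsupp.single 1 1) F ≠ 0 ∨ coeff (Finsupp.single (1 : Fin 2) 2) F ≠ 0 := by
    by_contra! h
    rw [h.1, h.2.1, h.2.2] at hd
    exact hne (by simpa [quad] using hd)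
  obtain ⟨ψ₁, a, b, c, ha, h1⟩ := exists_square_coeff hd hne'
  obtain ⟨ψ₂, c', h3⟩ := exists_no_cross h2 h1 ha
  set F₂ := ψ₂ (ψ₁ F) with hF₂
  let G : P₂ := C a⁻¹ * F₂ - X 0 ^ 2
  have hG3 : G - C (a⁻¹ * c') * X 1 ^ 2 ∈ (ordFilt k 2).I 3 := by
    have : G - C (a⁻¹ * c') * X 1 ^ 2 = C a⁻¹ * (F₂ - quad a 0 c') := by
      simp only [G, quad, map_mul, map_zero]
      linear_combination (C a⁻¹ * C a - 1 : P₂) * 0 + ((congrArg (fun x : P₂ => x * X 0 ^ 2)
        (show (C a⁻¹ : P₂) * C a = 1 by rw [← map_mul, inv_mul_cancel₀ ha, map_one])))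
    exact this ▸ Ideal.mul_mem_left _ _ h3
  have hcoef : ∀ e : Fin 2 →₀ ℕ, e.degree < 3 → e ≠ Finsupp.single 1 2 → coeff e G = 0 := fun e he hne => by
    have h := hG3 e he
    rwa [map_sub, X_pow_eq, coeff_C_mul, coeff_monomial, if_neg hne, mul_zero, sub_zero] at h
  have hG : G ∈ (ordFilt k 2).I 2 := fun e he => hcoef e (by omega) (by rintro rfl; simp at he)
  obtain ⟨h, C₀, hh, hC₀, hind, heq⟩ := exists_split h2 hG
    (hcoef _ (by simp) (fun h => by simpa using DFunLike.congr_fun h 0))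
    (hcoef _ (by simp) (fun h => by simpa using DFunLike.congr_fun h 0))
  have hassoc : Associated ((X 0 + h) ^ 2 + C₀) F₂ := by
    rw [← heq, show X 0 ^ 2 + G = C a⁻¹ * F₂ by simp [G]]
    exact associated_unit_mul_left F₂ _ ((isUnit_iff_ne_zero.2 (inv_ne_zero ha)).map C)
  have hback : Associated ((ψ₂.symm.trans ψ₁.symm) F₂) F := by simp [hF₂]
  have hY1 : ∀ i, coeff (Finsupp.single i 1) (X 0 + h) = if i = 0 then 1 else 0 := fun i => by
    rw [map_add, coeff_single_X, coeff_single_of_mem hh, add_zero]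
  have hY0 : constantCoeff (X 0 + h) = 0 := by simp [(mem_two_iff.1 hh).1]
  by_cases hC : C₀ = 0
  · right
    let ψ := autoOf (fun i : Fin 2 => if i = 0 then X 1 else X 0 + h)
      (fun i => by split_ifs <;> first | exact hY0 | simp) (by rw [det_jacobian]; simp [coeff_single_X, coeff_single_of_mem hh])
    refine ⟨ψ.trans (ψ₂.symm.trans ψ₁.symm), equivTransAssociated (G := F₂) ?_ hback⟩
    rw [hC, add_zero] at hassoc
    simpa [ψ] using hassoc
  left
  have hex : ∃ m, coeff (Finsupp.single (1 : Fin 2) m) C₀ ≠ 0 := by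
    by_contra! hall
    refine hC (MvPowerSeries.ext fun e => ?_)
    rw [map_zero]
    by_cases he : e 0 = 0
    · rw [show e = Finsupp.single 1 (e 1) by ext i; fin_cases i <;> simp [he]]; exact hall _
    · exact hind e he
  let m := Nat.find hex
  have hm2 : 2 ≤ m := by
    by_contra hlt
    exact Nat.find_spec hex (hC₀ _ (by rw [Finsupp.degree_single]; omega))
  obtain ⟨U, hU⟩ : X 1 ^ m ∣ C₀ := by
    rw [X_pow_dvd_iff]
    intro e he
    by_cases h0 : e 0 = 0
    · rw [show e = Finsupp.single 1 (e 1) by ext i; fin_cases i <;> simp [h0]]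
      exact not_not.1 (Nat.find_min hex he)
    · exact hind e h0
  have hU0 : constantCoeff (-U) ≠ 0 := by
    rw [map_neg, neg_ne_zero]
    intro h0
    refine Nat.find_spec hex ?_
    show coeff (Finsupp.single 1 m) C₀ = 0
    rw [hU, X_pow_eq, coeff_monomial_mul, if_pos le_rfl, tsub_self, one_mul,
      coeff_zero_eq_constantCoeff_apply, h0]
  obtain ⟨W, hW, hW0⟩ := exists_sqrt h2 hU0
  have hWinv : W * W⁻¹ = 1 := MvPowerSeries.mul_inv_cancel _ hW0
  let ψ := autoOf (fun i : Fin 2 => if i = 0 then X 1 else (X 0 + h) * W⁻¹)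
    (fun i => by split_ifs <;> first | (rw [map_mul, hY0, zero_mul]) | simp)
    (by
      rw [det_jacobian]
      simp [coeff_single_X, coeff_single_mul, coeff_single_of_mem hh, (mem_two_iff.1 hh).1, hW0])
  refine ⟨m - 1, ψ.trans (ψ₂.symm.trans ψ₁.symm), equivTransAssociated (G := F₂) ?_ hback⟩
  refine Associated.trans ?_ hassoc
  rw [show m - 1 + 1 = m by omega, hU, map_sub, map_pow, map_pow]
  simp only [ψ, autoOf_X, if_true, one_ne_zero, if_false]
  refine Associated.symm ?_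
  rw [show (X 0 + h) ^ 2 + X 1 ^ m * U = W ^ 2 * (((X 0 + h) * W⁻¹) ^ 2 - X 1 ^ m) by
    rw [mul_sub, ← mul_pow, mul_comm W ((X 0 + h) * W⁻¹), mul_assoc, mul_comm W⁻¹ W, hWinv, hW]; ring]
  exact associated_unit_mul_left _ _ ((MvPowerSeries.isUnit_iff_constantCoeff.2 (isUnit_iff_ne_zero.2 hW0)).pow 2)

theorem nonempty_of_linear {F : P₂} (h0 : constantCoeff F = 0) {j : Fin 2}
    (hj : coeff (Finsupp.single j 1) F ≠ 0) :
    ∃ ψ : P₂ ≃ₐ[k] P₂, ψ (X 1 ^ 2 - X 0) = F := by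
  classical
  let l := Equiv.swap (0 : Fin 2) 1 j
  let ψ := autoOf (fun i : Fin 2 => if i = 0 then X l ^ 2 - F else X l)
    (fun i => by split_ifs <;> simp [h0])
    (by
      rw [det_jacobian]
      have hl : ∀ i, coeff (Finsupp.single i 1) ((X l : P₂) ^ 2) = 0 := fun i => by
        rw [sq, coeff_single_mul]; simp
      fin_cases j <;> simp_all [l, coeff_single_X])
  exact ⟨ψ, by simp [ψ]⟩

end Groth.Agent.PlaneCurve70
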