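import Groth.Agent.PlaneCurve70.Elim
import Groth.Agent.PlaneCurve70.Normal
import Groth.Prelude.Def_W4c1arstab1appArSing

/-!
# Completed local rings of plane curves
-/

set_option autoImplicit false
set_option linter.style.haveILetI false

universe u

noncomputable section

namespace Groth.Agent.PlaneCurve70

open MvPowerSeries Groth.Agent.QuadMorse

variable {k : Type u} [Field k]

local notation "R₂" => MvPolynomial (Fin 2) k
local notation "P₂" => MvPowerSeries (Fin 2) k

/-- The shift of a polynomial. -/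
def shift (a : Fin 2 → k) : R₂ →ₐ[k] R₂ :=
  MvPolynomial.aeval fun i : Fin 2 => MvPolynomial.X i + MvPolynomial.C (a i)

theorem shift_shift (a : Fin 2 → k) (f : R₂) : shift a (shift (-a) f) = f := by
  have h : (shift a).comp (shift (-a)) = AlgHom.id k R₂ := MvPolynomial.algHom_ext fun i => by
    simp [shift, map_add, map_neg]
  exact AlgHom.congr_fun h f

theorem shift_shift' (a : Fin 2 → k) (f : R₂) : shift (-a) (shift a f) = f := by
  have := shift_shift (-a) f
  rwa [neg_neg] at this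

theorem constantCoeff_shift (a : Fin 2 → k) (f : R₂) :
    MvPolynomial.constantCoeff (shift a f) = MvPolynomial.eval a f := by
  induction f using MvPolynomial.induction_on with
  | C c => simp [shift]
  | add p q hp hq => simp only [map_add, hp, hq]
  | mul_X p i hp => simp only [map_mul, hp]; simp [shift]

theorem pderiv_shift (a : Fin 2 → k) (i : Fin 2) (f : R₂) :
    MvPolynomial.pderiv i (shift a f) = shift a (MvPolynomial.pderiv i f) := by
  induction f using MvPolynomial.induction_on with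
  | C c => simp [shift]
  | add p q hp hq => simp only [map_add, hp, hq]
  | mul_X p j hp =>
    rw [map_mul, MvPolynomial.pderiv_mul, MvPolynomial.pderiv_mul, hp, map_add, map_mul, map_mul]
    congr 2
    by_cases h : i = j
    · subst h; simp [shift]
    · simp [shift, MvPolynomial.pderiv_X_of_ne (Ne.symm h)]

theorem eval_eq (a : Fin 2 → k) (f : R₂) :
    MvPolynomial.eval a f = constantCoeff ((shift a f : R₂) : P₂) := by
  rw [← coeff_zero_eq_constantCoeff_apply, MvPolynomial.coeff_coe, ← MvPolynomial.constantCoeff_eq,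
    constantCoeff_shift]

theorem eval_pderiv (a : Fin 2 → k) (f : R₂) (i : Fin 2) :
    MvPolynomial.eval a (MvPolynomial.pderiv i f) = coeff (Finsupp.single i 1) ((shift a f : R₂) : P₂) := by
  rw [eval_eq, ← pderiv_shift, ← MvPowerSeries.pderiv_coe, ← coeff_zero_eq_constantCoeff_apply,
    MvPowerSeries.coeff_pderiv]
  simp

theorem eval_pderiv_pderiv (a : Fin 2 → k) (f : R₂) (i j : Fin 2) :
    MvPolynomial.eval a (MvPolynomial.pderiv i (MvPolynomial.pderiv j f)) =
      coeff (Finsupp.single i 1 + Finsupp.single j 1) ((shift a f : R₂) : P₂) * (((Finsupp.single i 1 : Fin 2 →₀ ℕ) j : k) + 1) := by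
  rw [eval_pderiv, ← pderiv_shift, ← MvPowerSeries.pderiv_coe, MvPowerSeries.coeff_pderiv]

variable [IsAlgClosed k]

theorem iff_sq_mul (f : R₂) (a : Fin 2 → k) :
    Nonempty ((P₂ ⧸ Ideal.span ({((shift a f : R₂) : P₂)} : Set P₂)) ≃ₐ[k]
      (P₂ ⧸ Ideal.span ({X 1 ^ 2} : Set P₂))) ↔
    ∃ g h : R₂, f = g ^ 2 * h ∧ MvPolynomial.eval a h ≠ 0 ∧ MvPolynomial.eval a g = 0 ∧
      ∃ i : Fin 2, MvPolynomial.eval a (MvPolynomial.pderiv i g) ≠ 0 := by
  classical
  constructor
  · rintro ⟨φ⟩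
    have hT : (X 1 ^ 2 : P₂) ∈ (ordFilt k 2).I 2 := by
      rw [sq]; exact (ordFilt k 2).mul (X_mem 1) (X_mem 1)
    obtain ⟨ψ, hψ⟩ := exists_auto hT φ.symm
    rw [map_pow] at hψ
    obtain ⟨u, hu⟩ := hψ
    have hG0 : constantCoeff (ψ (X 1)) = 0 := equiv_constantCoeff ψ 1
    obtain ⟨i, hi⟩ : ∃ i, coeff (Finsupp.single i 1) (ψ (X 1)) ≠ 0 := by
      by_contra! hall
      have h := equiv_mem ψ.symm (mem_two_iff.2 ⟨hG0, hall⟩)
      rw [AlgEquiv.symm_apply_apply] at h
      have := (mem_two_iff.1 h).2 1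
      simp [coeff_single_X] at this
    have hG : Prime (ψ (X 1)) := prime_of_not_mem_two hG0 hi
    have hf0 : shift a f ≠ 0 := fun h0 => by
      rw [h0, MvPolynomial.coe_zero] at hu
      exact hG.ne_zero (eq_zero_of_pow_eq_zero (u.isUnit.mul_left_eq_zero.1 hu))
    obtain ⟨g, h, hgh, hh, w, hw, hgw⟩ := exists_sq_mul hf0 hG u.isUnit (by rw [← hu, mul_comm])
    refine ⟨shift (-a) g, shift (-a) h, ?_, ?_, ?_, i, ?_⟩
    · rw [← map_pow, ← map_mul, ← hgh, shift_shift']
    · rw [eval_eq, shift_shift]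
      exact (isUnit_iff_constantCoeff.1 hh).ne_zero
    · rw [eval_eq, shift_shift, hgw, map_mul, hG0, zero_mul]
    · rw [eval_pderiv, shift_shift, hgw, coeff_single_mul, hG0, zero_mul, add_zero]
      exact mul_ne_zero hi (isUnit_iff_constantCoeff.1 hw).ne_zero
  · rintro ⟨g, h, rfl, hh, hg, i, hi⟩
    rw [eval_eq] at hh hg
    rw [eval_pderiv] at hi
    set G := ((shift a g : R₂) : P₂)
    let y : Fin 2 → P₂ := fun l => if l = 0 then X (Equiv.swap 0 1 i) else G
    let ψ := autoOf y (fun l => by by_cases hl : l = 0 <;> simp [y, hl, hg]) (by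
      rw [det_jacobian]
      fin_cases i <;> simp_all [y, coeff_single_X])
    obtain ⟨φ⟩ := nonempty_equiv ψ (F := X 1 ^ 2) (G := ((shift a (g ^ 2 * h) : R₂) : P₂)) (by
      simp only [map_mul, map_pow, MvPolynomial.coe_mul, MvPolynomial.coe_pow, ψ, autoOf_X, y, one_ne_zero, if_false]
      exact (associated_mul_unit_right _ _ (isUnit_iff_constantCoeff.2 (isUnit_iff_ne_zero.2 hh))))
    exact ⟨φ.symm⟩

theorem hessian_iff (h2 : (2 : k) ≠ 0) (f : R₂) (a : Fin 2 → k) (hfa : MvPolynomial.eval a f = 0) :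
    ((∀ i : Fin 2, MvPolynomial.eval a (MvPolynomial.pderiv i f) = 0) ∧
      ∀ i j : Fin 2, MvPolynomial.eval a (MvPolynomial.pderiv i (MvPolynomial.pderiv j f)) = 0) ↔
    ¬ ((∃ n : ℕ, Nonempty ((P₂ ⧸ Ideal.span ({((shift a f : R₂) : P₂)} : Set P₂)) ≃ₐ[k] ArSing.ring k n)) ∨
        Nonempty ((P₂ ⧸ Ideal.span ({((shift a f : R₂) : P₂)} : Set P₂)) ≃ₐ[k]
          (P₂ ⧸ Ideal.span ({X 1 ^ 2} : Set P₂)))) := by
  classical
  rw [eval_eq] at hfa
  simp only [eval_pderiv_pderiv]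
  simp only [eval_pderiv]
  set F := ((shift a f : R₂) : P₂)
  have hfac : ∀ i j : Fin 2, (((Finsupp.single i 1 : Fin 2 →₀ ℕ) j : k) + 1) ≠ 0 := fun i j => by
    rw [Finsupp.single_apply]
    split_ifs
    · norm_num; exact h2
    · simp
  constructor
  · rintro ⟨hl, hq⟩
    have hq' : ∀ i j : Fin 2, coeff (Finsupp.single i 1 + Finsupp.single j 1) F = 0 := fun i j =>
      (mul_eq_zero.1 (hq i j)).resolve_right (hfac i j)
    have hF2 : F ∈ (ordFilt k 2).I 2 := mem_two_iff.2 ⟨hfa, hl⟩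
    have hF3 : F ∈ (ordFilt k 2).I 3 := by
      have h := quad_decomp hF2
      have h00 := hq' 0 0
      have h11 := hq' 1 1
      rw [← Finsupp.single_add] at h00 h11
      rw [h00, h11, hq' 0 1] at h
      simpa [quad] using h
    have key : ∀ T : P₂, coeff (Finsupp.single 1 2) T ≠ 0 →
        ¬ Nonempty ((P₂ ⧸ Ideal.span ({F} : Set P₂)) ≃ₐ[k] (P₂ ⧸ Ideal.span ({T} : Set P₂))) := by
      rintro T hT ⟨φ⟩
      obtain ⟨ψ, u, hu⟩ := exists_auto hF2 φ
      exact hT ((hu ▸ Ideal.mul_mem_right _ _ (equiv_mem ψ hF3) : T ∈ (ordFilt k 2).I 3) _ (by simp))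
    rintro (⟨n, hn⟩ | hn)
    · refine key (ArSing.eqn k n) ?_ hn
      rw [ArSing.eqn, map_sub, X_pow_eq, X_pow_eq, coeff_monomial, coeff_monomial, if_pos rfl, if_neg]
      · simp
      · intro he
        simpa using DFunLike.congr_fun he 1
    · refine key _ ?_ hn
      rw [X_pow_eq, coeff_monomial, if_pos rfl]
      exact one_ne_zero
  · intro hnot
    have hl : ∀ i, coeff (Finsupp.single i 1) F = 0 := by
      by_contra! hj
      obtain ⟨j, hj⟩ := hj
      obtain ⟨ψ, hψ⟩ := nonempty_of_linear hfa hj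
      obtain ⟨φ⟩ := nonempty_equiv ψ (F := ArSing.eqn k 0) (G := F) (by rw [ArSing.eqn, zero_add, pow_one, hψ])
      exact hnot (Or.inl ⟨0, ⟨φ.symm⟩⟩)
    have hF2 : F ∈ (ordFilt k 2).I 2 := mem_two_iff.2 ⟨hfa, hl⟩
    have hF3 : F ∈ (ordFilt k 2).I 3 := by
      by_contra hne
      rcases nonempty_of_square_coeff h2 hF2 hne with ⟨n, ψ, hψ⟩ | ⟨ψ, hψ⟩
      · obtain ⟨φ⟩ := nonempty_equiv ψ (F := ArSing.eqn k n) (G := F) hψ
        exact hnot (Or.inl ⟨n, ⟨φ.symm⟩⟩)
      · obtain ⟨φ⟩ := nonempty_equiv ψ hψ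
        exact hnot (Or.inr ⟨φ.symm⟩)
    exact ⟨hl, fun i j => by rw [hF3 _ (by simp), zero_mul]⟩

end Groth.Agent.PlaneCurve70
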